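import Cfsg.Agent.Lib.Misc.Schmidt
import Cfsg.Agent.Lib.PGroup.Critical
import Cfsg.Agent.Lib.Core.Hol

/-!
Minimal non-`p`-nilpotent groups: the field attached to `p, q` and the normal form of the groups.
-/

set_option autoImplicit false

namespace Cfsg.Agent.Lib.Two

open Subgroup Cfsg.Agent.Lib.Core Cfsg.Agent.Lib.PGroup Polynomial
open scoped Pointwise commutatorElement IsMulCommutative

/-- `K` is the field generated over the prime field by a primitive `q`-th root of unity `ζ` -/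
structure Fld (p q : ℕ) {K : Type} [Field K] [Algebra (ZMod p) K] (ζ : K) : Prop where
  prime : q.Prime
  ne : p ≠ q
  prim : IsPrimitiveRoot ζ q
  gen : ∀ x, ∃ h : (ZMod p)[X], aeval ζ h = x
  card : Nat.card K = p ^ orderOf (p : ZMod q)

theorem exists_fld (p q : ℕ) [hp : Fact p.Prime] (hq : q.Prime) (hpq : p ≠ q) :
    ∃ (K : Type) (_ : Field K) (_ : Algebra (ZMod p) K) (ζ : K), Fld p q ζ := by
  have hc : p.Coprime q := (Nat.coprime_primes hp.out hq).mpr hpq
  obtain ⟨f, hf, hd⟩ := exists_irreducible_of_natDegree_pos (f := cyclotomic q (ZMod p)) (by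
    rw [natDegree_cyclotomic]; exact Nat.totient_pos.mpr hq.pos)
  have := Fact.mk hf
  have h1 := natDegree_of_dvd_cyclotomic_of_irreducible (K := ZMod p) (f := 1) (by simp) hc hd hf
  have : NeZero ((q : ℕ) : ZMod p) := ⟨fun h => hpq ((Nat.prime_dvd_prime_iff_eq hp.out hq).mp
    ((ZMod.natCast_eq_zero_iff _ _).mp h))⟩
  have : NeZero ((q : ℕ) : AdjoinRoot f) := NeZero.of_injective (algebraMap (ZMod p) _).injective
  refine ⟨AdjoinRoot f, inferInstance, inferInstance, AdjoinRoot.root f, hq, hpq, ?_,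
    fun x => ?_, ?_⟩
  · rw [← isRoot_cyclotomic_iff, ← map_cyclotomic q (algebraMap (ZMod p) _), IsRoot.def,
      eval_map_algebraMap, AdjoinRoot.aeval_eq, AdjoinRoot.mk_eq_zero]
    exact hd
  · obtain ⟨h, rfl⟩ := AdjoinRoot.mk_surjective x
    exact ⟨h, AdjoinRoot.aeval_eq h⟩
  · have := (AdjoinRoot.powerBasis hf.ne_zero).finite
    rw [Module.natCard_eq_pow_finrank (K := ZMod p), (AdjoinRoot.powerBasis hf.ne_zero).finrank,
      AdjoinRoot.powerBasis_dim, h1, Nat.card_zmod, ← orderOf_units, ZMod.coe_unitOfCoprime,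
      pow_one]

variable {p q : ℕ} [hp : Fact p.Prime] {K : Type} [Field K] [Algebra (ZMod p) K] {ζ : K}

theorem aeval_mem_of_closed {A : Type*} [CommRing A] [Algebra (ZMod p) A] {z : A}
    {S : AddSubgroup A} (h : ∀ x ∈ S, z * x ∈ S) (f : (ZMod p)[X]) {x : A} (hx : x ∈ S) :
    aeval z f * x ∈ S := by
  induction f using Polynomial.induction_on' with
  | add f g h1 h2 => rw [map_add, add_mul]; exact add_mem h1 h2
  | monomial n c =>
    obtain ⟨c, rfl⟩ := ZMod.natCast_zmod_surjective c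
    rw [aeval_monomial, map_natCast, mul_assoc, ← nsmul_eq_mul]
    refine nsmul_mem ?_ _
    induction n with
    | zero => simpa using hx
    | succ n ih => rw [pow_succ', mul_assoc]; exact h _ ih

namespace Fld

variable (hK : Fld p q ζ)
include hK

theorem finite : Finite K := Nat.finite_of_card_ne_zero (hK.card ▸ pow_ne_zero _ hp.out.ne_zero)

theorem ne_one : ζ ≠ 1 := hK.prim.ne_one hK.prime.one_lt

theorem ne_zero : ζ ≠ 0 := hK.prim.ne_zero hK.prime.ne_zero

theorem irr {S : AddSubgroup K} (h : ∀ x ∈ S, ζ * x ∈ S) {x : K} (hx : x ∈ S) (h0 : x ≠ 0)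
    (y : K) : y ∈ S := by
  obtain ⟨f, hf⟩ := hK.gen (y * x⁻¹)
  have := aeval_mem_of_closed (p := p) h f hx
  rwa [hf, inv_mul_cancel_right₀ h0] at this

theorem pow_eq_iff {m n : ℕ} : ζ ^ m = ζ ^ n ↔ (m : ZMod q) = n := by
  rw [ZMod.natCast_eq_natCast_iff, hK.prim.eq_orderOf, ← (isOfFinOrder_iff_pow_eq_one.mpr
    ⟨q, hK.prime.pos, hK.prim.pow_eq_one⟩).pow_eq_pow_iff_modEq]

theorem pow_eq_inv_iff {m : ℕ} : ζ ^ m = ζ⁻¹ ↔ (m : ZMod q) = -1 := by
  rw [← mul_eq_one_iff_eq_inv₀ hK.ne_zero, ← pow_succ, ← pow_zero ζ, hK.pow_eq_iff,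
    eq_neg_iff_add_eq_zero]
  simp

theorem pow_half {b : ℕ} (h : orderOf (p : ZMod q) = 2 * b) : ζ ^ p ^ b = ζ⁻¹ := by
  have := Fact.mk hK.prime
  have hb : 0 < b := by
    have := hK.card
    have := hK.finite
    have := Finite.one_lt_card (α := K)
    by_contra e
    simp_all
  rw [hK.pow_eq_inv_iff, Nat.cast_pow]
  refine (sq_eq_one_iff.mp ?_).resolve_left
    (pow_ne_one_of_lt_orderOf hb.ne' (by omega))
  rw [← pow_mul, mul_comm, ← h, pow_orderOf_eq_one]

theorem aeval_inv_ne (h : Odd (orderOf (p : ZMod q))) (h2 : ζ⁻¹ ≠ ζ) :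
    aeval ζ⁻¹ (minpoly (ZMod p) ζ) ≠ 0 := fun e => by
  have := Fact.mk hK.prime
  have := hK.finite
  have : Module.Finite (ZMod p) K := Module.Finite.of_finite
  obtain ⟨σ, hσ⟩ := minpoly.exists_algEquiv_of_root' (Algebra.IsAlgebraic.isAlgebraic ζ) e
  obtain ⟨i, hi⟩ := FiniteField.exists_forall_apply_eq_pow (ZMod p) p K σ
  rw [hi, Nat.card_zmod] at hσ
  have h3 := hK.pow_eq_inv_iff.mp hσ
  rw [Nat.cast_pow] at h3
  have h4 : orderOf (p : ZMod q) ∣ i * 2 := by
    rw [orderOf_dvd_iff_pow_eq_one, pow_mul, h3]; simp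
  have h5 := orderOf_dvd_iff_pow_eq_one.mp ((Nat.coprime_two_right.mpr h).dvd_of_dvd_mul_right h4)
  refine h2 (hσ.symm.trans ?_)
  rw [← pow_one ζ, ← pow_mul, hK.pow_eq_iff, one_mul, Nat.cast_pow, h5, Nat.cast_one]

end Fld

variable {G : Type*} [Group G]

/-- normal form of a `p`-group acted on by a `q`-element -/
structure Sch (p q r : ℕ) (ζ : K) (P : Subgroup G) (g : G) (π : G → K) : Prop where
  pg : IsPGroup p P
  ord : orderOf g = q ^ r
  norm : g ∈ normalizer (P : Set G)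
  add : ∀ x ∈ P, ∀ y ∈ P, π (x * y) = π x + π y
  surj : ∀ c, ∃ x ∈ P, π x = c
  conj : ∀ x ∈ P, π (g * x * g⁻¹) = ζ * π x
  cen : ∀ x ∈ P, π x = 0 → x ∈ centralizer (P : Set G)
  fix : ∀ x ∈ P, π x = 0 → Commute g x

theorem mem_commutator_of_fixed' [Finite G] {H P : Subgroup G} (hP : IsPGroup p P)
    (hH : ¬ p ∣ Nat.card H) (hn : H ≤ normalizer (P : Set G)) (h : ⁅P, H⁆ = P) {z : G} (hz : z ∈ P)
    (hc : z ∈ centralizer (H : Set G)) : z ∈ ⁅P, P⁆ := by
  let φ := P.normalizerMonoidHom.comp (inclusion hn)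
  rw [← map_subtype_commutator]
  refine ⟨⟨z, hz⟩, mem_commutator_of_fixed hP (A := φ.range)
    (Nat.Coprime.coprime_dvd_left (card_range_dvd φ) (hp.out.coprime_iff_not_dvd.mpr hH).symm)
    (map_injective P.subtype_injective (by
      rw [← MonoidHom.range_eq_map, range_subtype]
      refine (map_subtype_le _).antisymm (h.ge.trans (commutator_le.mpr fun x hx g hg => ?_))
      exact ⟨_, subset_closure ⟨⟨x, hx⟩⁻¹, _, ⟨⟨g, hg⟩, rfl⟩, rfl⟩, by
        simp [φ, commutatorElement_def, mul_assoc]⟩)) ?_, rfl⟩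
  rintro _ ⟨g, rfl⟩
  refine Subtype.ext ?_
  simp only [φ, MonoidHom.comp_apply, normalizerMonoidHom_apply_apply_coe, coe_inclusion]
  rw [mul_inv_eq_iff_eq_mul]
  exact hc g g.2

namespace Sch

variable {r : ℕ} {P : Subgroup G} {g : G} {π : G → K} (h : Sch p q r ζ P g π)
include h

theorem one : π 1 = 0 := by simpa using h.add 1 (one_mem _) 1 (one_mem _)

theorem inv {x : G} (hx : x ∈ P) : π x⁻¹ = -π x := by
  rw [eq_neg_iff_add_eq_zero, ← h.add _ (inv_mem hx) _ hx, inv_mul_cancel, h.one]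

theorem conj_self {u x : G} (hu : u ∈ P) (hx : x ∈ P) : π (u * x * u⁻¹) = π x := by
  rw [h.add _ (mul_mem hu hx) _ (inv_mem hu), h.add _ hu _ hx, h.inv hu]; ring

theorem comm {u x : G} (hu : u ∈ P) (hx : x ∈ P) : π ⁅u, x⁆ = 0 := by
  rw [commutatorElement_def, h.add _ (mul_mem (mul_mem hu hx) (inv_mem hu)) _ (inv_mem hx),
    h.conj_self hu hx, h.inv hx, add_neg_cancel]

theorem conj_pow (n : ℕ) {x : G} (hx : x ∈ P) : π (g ^ n * x * (g ^ n)⁻¹) = ζ ^ n * π x := by
  induction n with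
  | zero => simp
  | succ n ih =>
    rw [pow_succ' ζ, mul_assoc ζ, ← ih,
      ← h.conj _ (conj_mem_of_mem_normalizer (pow_mem h.norm n) hx), pow_succ']
    congr 1; group

/-- the kernel -/
def ker : Subgroup G where
  carrier := {x | x ∈ P ∧ π x = 0}
  one_mem' := ⟨one_mem _, h.one⟩
  mul_mem' := fun {x y} hx hy => ⟨mul_mem hx.1 hy.1, by rw [h.add _ hx.1 _ hy.1, hx.2, hy.2, add_zero]⟩
  inv_mem' := fun {x} hx => ⟨inv_mem hx.1, by rw [h.inv hx.1, hx.2, neg_zero]⟩

/-- the image of a subgroup -/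
def img {D : Subgroup G} (hD : D ≤ P) : AddSubgroup K where
  carrier := π '' D
  zero_mem' := ⟨1, one_mem _, h.one⟩
  add_mem' := by
    rintro _ _ ⟨x, hx, rfl⟩ ⟨y, hy, rfl⟩
    exact ⟨x * y, mul_mem hx hy, h.add _ (hD hx) _ (hD hy)⟩
  neg_mem' := by
    rintro _ ⟨x, hx, rfl⟩
    exact ⟨x⁻¹, inv_mem hx, h.inv (hD hx)⟩

theorem card_eq : Nat.card P = Nat.card K * Nat.card h.ker := by
  let f : P →* Multiplicative K := MonoidHom.mk' (fun x => Multiplicative.ofAdd (π x))
    fun x y => congrArg Multiplicative.ofAdd (h.add _ x.2 _ y.2)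
  have h1 : f.ker.map P.subtype = h.ker := by
    ext x
    exact ⟨by rintro ⟨x, hx, rfl⟩; exact ⟨x.2, hx⟩, fun hx => ⟨⟨x, hx.1⟩, hx.2, rfl⟩⟩
  rw [← h1, card_map_subtype, card_eq_card_quotient_mul_card_subgroup f.ker,
    Nat.card_congr (QuotientGroup.quotientKerEquivOfSurjective f fun c =>
      let ⟨x, hx, e⟩ := h.surj c.toAdd; ⟨⟨x, hx⟩, congrArg Multiplicative.ofAdd e⟩).toEquiv]
  rfl

theorem zpowers_le_norm : zpowers g ≤ normalizer (P : Set G) := zpowers_le.mpr h.norm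

theorem ker_le_cen : h.ker ≤ centralizer ((P ⊔ zpowers g : Subgroup G) : Set G) := by
  rw [centralizer_sup, centralizer_zpowers]
  exact fun x hx => ⟨h.cen x hx.1 hx.2, mem_centralizer_singleton_iff.mpr (h.fix x hx.1 hx.2).symm⟩

variable [Finite G] (hK : Fld p q ζ)
include hK

theorem not_dvd : ¬ p ∣ Nat.card (zpowers g) := fun e => by
  rw [Nat.card_zpowers, h.ord] at e
  exact hK.ne ((Nat.prime_dvd_prime_iff_eq hp.out hK.prime).mp (hp.out.dvd_of_dvd_pow e))

theorem coprimeAct : CoprimeAct (zpowers g) P :=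
  coprimeAct_of_isPGroup_right (h.not_dvd hK) h.pg h.zpowers_le_norm

theorem card_sup : Nat.card (P ⊔ zpowers g : Subgroup G) = Nat.card P * q ^ r := by
  have := Core.card_sup_mul_card_inf h.zpowers_le_norm
  rw [(h.coprimeAct hK).inf_eq_bot, card_bot, mul_one, Nat.card_zpowers, h.ord] at this
  rw [sup_comm, this, mul_comm]

theorem restrict : Sch p q r ζ ⁅P, zpowers g⁆ g π := by
  have hle : ⁅P, zpowers g⁆ ≤ P := commutator_le_of_le_normalizer_left h.zpowers_le_norm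
  refine ⟨h.pg.to_le hle, h.ord, normalizer_commutator_ge_right _ _ (mem_zpowers g),
    fun x hx y hy => h.add _ (hle hx) _ (hle hy), fun c => ?_, fun x hx => h.conj _ (hle hx),
    fun x hx e => centralizer_le_centralizer hle (h.cen _ (hle hx) e),
    fun x hx => h.fix _ (hle hx)⟩
  obtain ⟨x, hx, e⟩ := h.surj ((1 - ζ)⁻¹ * c)
  refine ⟨⁅x, g⁆, commutator_mem_commutator hx (mem_zpowers g), ?_⟩
  rw [commutatorElement_def, mul_assoc, mul_assoc, ← mul_assoc g,
    h.add _ hx _ (conj_mem_of_mem_normalizer h.norm (inv_mem hx)), h.conj _ (inv_mem hx), h.inv hx,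
    e]
  have := sub_ne_zero.mpr hK.ne_one.symm
  field_simp
  ring

theorem ker_le (hc : ⁅P, zpowers g⁆ = P) : h.ker ≤ ⁅P, P⁆ := fun x hx =>
  mem_commutator_of_fixed' h.pg (h.not_dvd hK) h.zpowers_le_norm hc hx.1
    (centralizer_le_centralizer le_sup_right (h.ker_le_cen hx))

theorem minimal (hr : 1 ≤ r) (hc : ⁅P, zpowers g⁆ = P) :
    ¬ HasNormalPComplement p (P ⊔ zpowers g : Subgroup G) ∧
      ∀ L : Subgroup (P ⊔ zpowers g : Subgroup G), L ≠ ⊤ → HasNormalPComplement p L := by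
  have hcop : (orderOf g).Coprime p := by
    rw [← Nat.card_zpowers]; exact (hp.out.coprime_iff_not_dvd.mpr (h.not_dvd hK)).symm
  constructor
  · intro e
    have := Transfer.mem_centralizer_of_hasNormalPComplement_of_le e h.pg le_sup_left
      (mem_sup_right (mem_zpowers g)) h.norm hcop
    obtain ⟨x, hx, e⟩ := h.surj 1
    have k := h.conj x hx
    rw [← this x hx, mul_inv_cancel_right, e, mul_one] at k
    exact hK.ne_one k.symm
  set X := P ⊔ zpowers g with hX
  intro L hL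
  have hXn : X ≤ normalizer (P : Set G) := sup_le le_normalizer h.zpowers_le_norm
  have hL' : L.map X.subtype ≠ X := fun e => hL (map_injective X.subtype_injective (by
    rw [e, ← MonoidHom.range_eq_map, range_subtype]))
  refine Transfer.hasNormalPComplement_of_injective (G := L.map X.subtype) ?_
    (L.equivMapOfInjective _ X.subtype_injective).toMonoidHom (MulEquiv.injective _)
  have hLX : L.map X.subtype ≤ X := map_subtype_le L
  generalize L.map X.subtype = M at hL' hLX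
  have hsyl : IsSyl p P X := ⟨le_sup_left, h.pg, fun e => by
    have := card_mul_relIndex (le_sup_left : P ≤ X)
    rw [h.card_sup hK, Nat.mul_right_inj Nat.card_pos.ne'] at this
    rw [this] at e
    exact hK.ne ((Nat.prime_dvd_prime_iff_eq hp.out hK.prime).mp (hp.out.dvd_of_dvd_pow e))⟩
  have key : ∀ y ∈ M, (orderOf y).Coprime p → y ∈ centralizer ((M ⊓ P : Subgroup G) : Set G) := by
    intro y hy hyo
    obtain ⟨u, hu, w, hw, rfl⟩ := (mem_sup_of_le_normalizer_left h.zpowers_le_norm).mp (hLX hy)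
    obtain ⟨i, rfl⟩ := (mem_powers_iff_mem_zpowers.mpr hw)
    simp only at hy hyo ⊢
    have k1 : ∀ x ∈ P, π (u * g ^ i * x * (u * g ^ i)⁻¹) = ζ ^ i * π x := fun x hx => by
      rw [← h.conj_pow i hx, ← h.conj_self hu (conj_mem_of_mem_normalizer (pow_mem h.norm i) hx)]
      congr 1; group
    by_cases hi : q ∣ i
    · refine centralizer_le_centralizer inf_le_right fun x hx => ?_
      rw [(hK.prim.pow_eq_one_iff_dvd i).mpr hi] at k1
      have hm := conj_mem_of_mem_normalizer (hXn (hLX hy)) hx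
      exact (mul_inv_eq_iff_eq_mul.mp (commute_of_stabilizes (N := h.ker)
        (h.pg.to_le fun x hx => hx.1) hyo ⟨mul_mem (inv_mem hx) hm, by
          rw [h.add _ (inv_mem hx) _ hm, k1 x hx, h.inv hx]; ring⟩
        (le_centralizer_iff.mp h.ker_le_cen (hLX hy)))).symm
    by_cases h0 : M ⊓ P ≤ h.ker
    · exact centralizer_le_centralizer h0 (le_centralizer_iff.mp h.ker_le_cen (hLX hy))
    exfalso
    obtain ⟨d, hd, hd0⟩ := SetLike.not_le_iff_exists.mp h0
    have hic : i.Coprime q := ((hK.prime.coprime_iff_not_dvd).mpr hi).symm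
    have : NeZero q := ⟨hK.prime.ne_zero⟩
    obtain ⟨j, -, hj⟩ := (hK.prim.pow_of_coprime i hic).eq_pow_of_pow_eq_one hK.prim.pow_eq_one
    have k0 : ∀ (j : ℕ) c, c ∈ h.img (D := M ⊓ P) inf_le_right →
        (ζ ^ i) ^ j * c ∈ h.img (D := M ⊓ P) inf_le_right := fun j c hc => by
      induction j with
      | zero => simpa using hc
      | succ j ih =>
        obtain ⟨x, hx, e⟩ := ih
        exact ⟨_, ⟨M.mul_mem (M.mul_mem hy hx.1) (M.inv_mem hy),
          conj_mem_of_mem_normalizer (hXn (hLX hy)) hx.2⟩, by rw [k1 x hx.2, e]; ring⟩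
    have k2 : ∀ c, c ∈ h.img (D := M ⊓ P) inf_le_right := hK.irr (fun c hc => by
      have := k0 j c hc
      rwa [hj] at this)
      ⟨d, hd, rfl⟩ fun e => hd0 ⟨hd.2, e⟩
    have k3 : ∀ x ∈ P, ∃ d ∈ M, ∃ z ∈ h.ker, x = d * z := fun x hx => by
      obtain ⟨d, hd, e⟩ := k2 (π x)
      exact ⟨d, hd.1, d⁻¹ * x, ⟨mul_mem (inv_mem hd.2) hx, by
        rw [h.add _ (inv_mem hd.2) _ hx, h.inv hd.2, e, neg_add_cancel]⟩, by group⟩
    have k4 : ⁅P, P⁆ ≤ M := commutator_le.mpr fun x hx y hy => by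
      obtain ⟨d, hd, z, hz, rfl⟩ := k3 x hx
      obtain ⟨d', hd', z', hz', rfl⟩ := k3 y hy
      have c1 := h.cen z hz.1 hz.2
      have c2 := h.cen z' hz'.1 hz'.2
      have m1 : d ∈ P := (P.mul_mem_cancel_right hz.1).mp hx
      have e : ⁅d * z, d' * z'⁆ = ⁅d, d'⁆ := by
        calc ⁅d * z, d' * z'⁆ = d * (z * (d' * z')) * z⁻¹ * (z' * d)⁻¹ * d'⁻¹ := by
              rw [commutatorElement_def]; group
          _ = ⁅d, d'⁆ := by
              rw [← c1 _ hy, ← c2 _ m1, commutatorElement_def]; group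
      rw [e]
      exact mul_mem (mul_mem (mul_mem hd hd') (inv_mem hd)) (inv_mem hd')
    have k5 : P ≤ M := fun x hx => by
      obtain ⟨d, hd, z, hz, rfl⟩ := k3 x hx
      exact mul_mem hd (k4 (h.ker_le hK hc hz))
    obtain ⟨m, hm⟩ := exists_pow_eq_self_of_coprime (x := g) (n := i) (h.ord ▸ hic.pow_right r)
    exact hL' (hLX.antisymm (sup_le k5 (zpowers_le.mpr
      (hm ▸ pow_mem ((M.mul_mem_cancel_left (k5 hu)).mp hy) m))))
  refine Transfer.hasNormalPComplement_of_frobenius fun Q hQ y _ hy x hx => Subtype.ext ?_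
  obtain ⟨c, hc, e⟩ := hsyl.exists_conj_le (hQ.map M.subtype) ((map_subtype_le Q).trans hLX)
  refine key y y.2 (by rwa [orderOf_coe]) x ⟨x.2, ?_⟩
  exact (mem_normalizer_iff.mp (hXn hc) _).mpr (map_conj_le_iff.mp e _ ⟨x, hx, rfl⟩)

end Sch

end Cfsg.Agent.Lib.Two
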