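import Cfsg.Agent.Lib.Two.Cover1

/-!
Minimal non-`p`-nilpotent groups: the order bound and the normal form.
-/

set_option autoImplicit false

namespace Cfsg.Agent.Lib.Two

open Subgroup Cfsg.Agent.Lib.Core Cfsg.Agent.Lib.PGroup Polynomial
open scoped Pointwise commutatorElement IsMulCommutative

variable {p q : ℕ} [hp : Fact p.Prime] {K : Type} [Field K] [Algebra (ZMod p) K] {ζ : K}

namespace Fld

variable (hK : Fld p q ζ)
include hK

theorem charP : CharP K p := charP_of_injective_algebraMap (algebraMap (ZMod p) K).injective p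

theorem half_pos {b : ℕ} (h : orderOf (p : ZMod q) = 2 * b) : 0 < b := by
  have := hK.card
  have := hK.finite
  have := Finite.one_lt_card (α := K)
  by_contra e
  simp_all

theorem card_range_ge {b : ℕ} (h : orderOf (p : ZMod q) = 2 * b) {c : K} {f : K →+ K}
    (hf : ∀ x, f x = x ^ p ^ b + c * x) : p ^ b ≤ Nat.card f.range := by
  classical
  have := hK.finite
  have hb : 1 < p ^ b := Nat.one_lt_pow (hK.half_pos h).ne' hp.out.one_lt
  have h1 : (X ^ p ^ b + C c * X : K[X]).natDegree = p ^ b := by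
    rw [natDegree_add_eq_left_of_natDegree_lt, natDegree_X_pow]
    rw [natDegree_X_pow]
    exact ((natDegree_C_mul_le _ _).trans natDegree_X_le).trans_lt hb
  have h2 : Nat.card f.ker ≤ p ^ b := by
    have := Fintype.ofFinite K
    rw [← h1, ← SetLike.coe_sort_coe, Nat.card_coe_set_eq, Set.ncard_eq_toFinset_card']
    refine card_le_degree_of_subset_roots fun x hx => ?_
    rw [mem_roots (fun e => by rw [e, natDegree_zero] at h1; omega), IsRoot.def]
    simpa [hf] using hx
  have h3 := AddSubgroup.card_eq_card_quotient_mul_card_addSubgroup f.ker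
  rw [Nat.card_congr (QuotientAddGroup.quotientKerEquivRange f).toEquiv, hK.card, h, two_mul,
    pow_add] at h3
  by_contra e
  have := Nat.mul_lt_mul_of_lt_of_le (not_le.mp e) h2 (by omega)
  omega

variable {A : Type*} [AddCommGroup A] {B : K →+ K →+ A}

theorem form_aeval (inv : ∀ x y, B (ζ * x) (ζ * y) = B x y) (f : (ZMod p)[X]) (x y : K) :
    B (aeval ζ f * x) y = B x (aeval ζ⁻¹ f * y) := by
  induction f using Polynomial.induction_on' with
  | add f g h1 h2 => simp only [map_add, add_mul, h1, h2, AddMonoidHom.add_apply]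
  | monomial n c =>
    obtain ⟨c, rfl⟩ := ZMod.natCast_zmod_surjective c
    rw [aeval_monomial, aeval_monomial, map_natCast, mul_assoc, mul_assoc, ← nsmul_eq_mul,
      ← nsmul_eq_mul, map_nsmul, map_nsmul, AddMonoidHom.nsmul_apply]
    congr 1
    induction n generalizing y with
    | zero => simp
    | succ n ih =>
      rw [pow_succ, mul_comm _ ζ, mul_assoc, pow_succ, mul_assoc, ← ih, ← inv _ (ζ⁻¹ * y),
        mul_inv_cancel_left₀ hK.ne_zero]

theorem form_odd (h : Odd (orderOf (p : ZMod q))) (alt : ∀ x, B x x = 0)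
    (inv : ∀ x y, B (ζ * x) (ζ * y) = B x y) (x y : K) : B x y = 0 := by
  by_cases h2 : ζ⁻¹ = ζ
  · have h3 : ζ = -1 := (sq_eq_one_iff.mp (by
      rw [sq]; nth_rw 1 [← h2]; exact inv_mul_cancel₀ hK.ne_zero)).resolve_left hK.ne_one
    have h4 := hK.irr (S := AddSubgroup.zmultiples (1 : K))
      (fun x hx => by rw [h3, neg_one_mul]; exact neg_mem hx) (AddSubgroup.mem_zmultiples 1)
      one_ne_zero
    obtain ⟨m, rfl⟩ := h4 x
    obtain ⟨n, rfl⟩ := h4 y
    simp only [map_zsmul, AddMonoidHom.zsmul_apply, alt, smul_zero]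
  · have h3 : ∀ y, B 1 y = 0 := fun y => by
      have := hK.form_aeval inv (minpoly (ZMod p) ζ) 1 ((aeval ζ⁻¹ (minpoly (ZMod p) ζ))⁻¹ * y)
      rw [mul_inv_cancel_left₀ (hK.aeval_inv_ne h h2), minpoly.aeval] at this
      simpa using this.symm
    obtain ⟨f, rfl⟩ := hK.gen x
    rw [← mul_one (aeval ζ f), hK.form_aeval inv, h3]

theorem form_even {b : ℕ} (h : orderOf (p : ZMod q) = 2 * b) (alt : ∀ x, B x x = 0)
    (inv : ∀ x y, B (ζ * x) (ζ * y) = B x y) :
    Nat.card (B 1).range ≤ p ^ b ∧ ∀ x y, B x y ∈ (B 1).range := by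
  have := hK.charP
  have := hK.finite
  have h1 : ∀ x y, B x y = B 1 (x ^ p ^ b * y) := fun x => by
    let S : AddSubgroup K :=
      { carrier := {x | ∀ y, B x y = B 1 (x ^ p ^ b * y)}
        zero_mem' := fun y => by simp [hp.out.ne_zero]
        add_mem' := fun {u v} hu hv y => by
          rw [map_add, AddMonoidHom.add_apply, hu, hv, add_pow_char_pow, add_mul, map_add]
        neg_mem' := fun {u} hu y => by
          rw [map_neg, AddMonoidHom.neg_apply, hu, ← iterateFrobenius_def, ← iterateFrobenius_def,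
            map_neg, neg_mul, map_neg] }
    refine hK.irr (S := S) (fun u hu y => ?_) (x := 1) (fun y => by simp) one_ne_zero x
    rw [← mul_inv_cancel_left₀ hK.ne_zero y, inv, hu, mul_pow, hK.pow_half h]
    congr 1
    field_simp
  refine ⟨?_, fun x y => ⟨_, (h1 x y).symm⟩⟩
  let f : K →+ K := (iterateFrobenius K p b).toAddMonoidHom + AddMonoidHom.id K
  have h2 : f.range ≤ (B 1).ker := by
    rintro _ ⟨x, rfl⟩
    have k := alt (x + 1)
    simp only [map_add, AddMonoidHom.add_apply, alt, h1 x 1, mul_one, zero_add, add_zero] at k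
    simpa [f, iterateFrobenius_def, add_comm] using k
  have h3 := (hK.card_range_ge h (c := 1) (f := f) fun x => by
    simp [f, iterateFrobenius_def]).trans (AddSubgroup.card_le_of_le h2)
  have h4 := AddSubgroup.card_eq_card_quotient_mul_card_addSubgroup (B 1).ker
  rw [Nat.card_congr (QuotientAddGroup.quotientKerEquivRange (B 1)).toEquiv, hK.card, h, two_mul,
    pow_add] at h4
  by_contra e
  have := Nat.mul_lt_mul_of_lt_of_le (not_le.mp e) h3 Nat.card_pos
  omega

theorem of_prim {ζ' : K} (h : IsPrimitiveRoot ζ' q) : Fld p q ζ' := by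
  have : NeZero q := ⟨hK.prime.ne_zero⟩
  obtain ⟨j, -, hj⟩ := h.eq_pow_of_pow_eq_one hK.prim.pow_eq_one
  refine ⟨hK.prime, hK.ne, h, fun x => ?_, hK.card⟩
  obtain ⟨f, rfl⟩ := hK.gen x
  exact ⟨f.comp (X ^ j), by rw [aeval_comp, aeval_X_pow, hj]⟩

end Fld

variable {G : Type*} [Group G]

namespace Sch

variable {r : ℕ} {P : Subgroup G} {g : G} {π : G → K} (h : Sch p q r ζ P g π)
include h

theorem comm_eq {x y x' y' : G} (hx : x ∈ P) (hy : y ∈ P) (hx' : x' ∈ P) (hy' : y' ∈ P)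
    (e1 : π x = π x') (e2 : π y = π y') : ⁅x, y⁆ = ⁅x', y'⁆ := by
  have c1 := h.cen _ (mul_mem (inv_mem hx') hx) (by
    rw [h.add _ (inv_mem hx') _ hx, h.inv hx', e1, neg_add_cancel])
  have c2 := h.cen _ (mul_mem (inv_mem hy') hy) (by
    rw [h.add _ (inv_mem hy') _ hy, h.inv hy', e2, neg_add_cancel])
  calc ⁅x, y⁆ = x' * (x'⁻¹ * x * y) * (x'⁻¹ * x)⁻¹ * (y'⁻¹ * y * x')⁻¹ * y'⁻¹ := by
        rw [commutatorElement_def]; group
    _ = ⁅x', y'⁆ := by
        rw [← c1 _ hy, ← c2 _ hx', commutatorElement_def]; group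

theorem comm_mem {x y : G} (hx : x ∈ P) (hy : y ∈ P) : ⁅x, y⁆ ∈ h.ker :=
  ⟨mul_mem (mul_mem (mul_mem hx hy) (inv_mem hx)) (inv_mem hy), h.comm hx hy⟩

theorem exists_form : ∃ (_ : IsMulCommutative h.ker) (B : K →+ K →+ Additive h.ker),
    ∀ x ∈ P, ∀ y ∈ P, ((B (π x) (π y)).toMul : G) = ⁅x, y⁆ := by
  have : IsMulCommutative h.ker := ⟨⟨fun x y => Subtype.ext (h.cen _ y.2.1 y.2.2 x x.2.1)⟩⟩
  choose s hs e using h.surj
  have k : ∀ {x y}, x ∈ P → y ∈ P → ⁅x, y⁆ ∈ centralizer (P : Set G) := fun hx hy =>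
    h.cen _ (h.comm_mem hx hy).1 (h.comm hx hy)
  refine ⟨this, AddMonoidHom.mk' (fun a => AddMonoidHom.mk'
    (fun b => Additive.ofMul ⟨⁅s a, s b⁆, h.comm_mem (hs a) (hs b)⟩) fun b c => ?_) fun a b => ?_,
    fun x hx y hy => h.comm_eq (hs _) (hs _) hx hy (e _) (e _)⟩
  · refine congrArg Additive.ofMul (Subtype.ext ?_)
    change ⁅s a, s (b + c)⁆ = ⁅s a, s b⁆ * ⁅s a, s c⁆
    rw [h.comm_eq (hs a) (hs (b + c)) (hs a) (mul_mem (hs b) (hs c)) rfl
      (by rw [h.add _ (hs b) _ (hs c), e, e, e])]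
    calc ⁅s a, s b * s c⁆ = ⁅s a, s b⁆ * (s b * ⁅s a, s c⁆) * (s b)⁻¹ := by
          simp only [commutatorElement_def]; group
      _ = _ := by rw [k (hs a) (hs c) _ (hs b)]; group
  · ext c
    change ⁅s (a + b), s c⁆ = ⁅s a, s c⁆ * ⁅s b, s c⁆
    rw [h.comm_eq (hs (a + b)) (hs c) (mul_mem (hs b) (hs a)) (hs c)
      (by rw [h.add _ (hs b) _ (hs a), e, e, e, add_comm]) rfl]
    calc ⁅s b * s a, s c⁆ = (s b * ⁅s a, s c⁆) * (s b)⁻¹ * ⁅s b, s c⁆ := by
          simp only [commutatorElement_def]; group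
      _ = _ := by rw [k (hs a) (hs c) _ (hs b)]; group

theorem card_le [Finite G] (hK : Fld p q ζ) (hc : ⁅P, zpowers g⁆ = P) {a : ℕ}
    (ha : a = orderOf (p : ZMod q)) : Nat.card P ≤ p ^ (if a % 2 = 1 then a else 3 * a / 2) := by
  obtain ⟨_, B, hB⟩ := h.exists_form
  have alt : ∀ x, B x x = 0 := fun c => by
    obtain ⟨x, hx, rfl⟩ := h.surj c
    exact Additive.toMul.injective (Subtype.ext ((hB x hx x hx).trans (by simp)))
  have inv : ∀ x y, B (ζ * x) (ζ * y) = B x y := fun c d => by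
    obtain ⟨x, hx, rfl⟩ := h.surj c
    obtain ⟨y, hy, rfl⟩ := h.surj d
    refine Additive.toMul.injective (Subtype.ext ?_)
    rw [← h.conj x hx, ← h.conj y hy, hB x hx y hy, hB _ (conj_mem_of_mem_normalizer h.norm hx) _
      (conj_mem_of_mem_normalizer h.norm hy), ← mul_inv_cancel_right ⁅x, y⁆ g,
      ← (h.fix _ (h.comm_mem hx hy).1 (h.comm hx hy)).eq]
    simp only [commutatorElement_def]; group
  rw [h.card_eq, hK.card, ← ha]
  split_ifs with e
  · have : h.ker = ⊥ := le_bot_iff.mp ((h.ker_le hK hc).trans (commutator_le.mpr fun x hx y hy => by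
      rw [← hB x hx y hy, hK.form_odd (ha ▸ Nat.odd_iff.mpr e) alt inv]; simp))
    simp [this]
  · obtain ⟨h1, h2⟩ := hK.form_even (b := a / 2) (by omega) alt inv
    have h3 : h.ker ≤ (AddSubgroup.toSubgroup' (B 1).range).map h.ker.subtype :=
      (h.ker_le hK hc).trans (commutator_le.mpr fun x hx y hy => ⟨_, h2 _ _, hB x hx y hy⟩)
    have h4 := card_le_of_le h3
    rw [card_map_subtype] at h4
    rw [show 3 * a / 2 = a + a / 2 by omega, pow_add]
    exact Nat.mul_le_mul_left _ (h4.trans h1)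

theorem pow [Finite G] {j : ℕ} (hj : j.Coprime q) : Sch p q r (ζ ^ j) P (g ^ j) π :=
  ⟨h.pg, by rw [(h.ord ▸ hj.symm.pow_left r : (orderOf g).Coprime j).orderOf_pow, h.ord],
    pow_mem h.norm j, h.add, h.surj, fun _ hx => h.conj_pow j hx, h.cen,
    fun x hx e => (h.fix x hx e).pow_left j⟩

end Sch

theorem exists_eigen {W : Type*} [AddCommGroup W] [Module K W] (T : Module.End K W)
    (s : Finset K) {w : W} (hw : w ≠ 0) (h : aeval T (∏ c ∈ s, (X - C c)) w = 0) :
    ∃ c ∈ s, ∃ v ≠ 0, T v = c • v := by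
  classical
  induction s using Finset.induction_on with
  | empty => simp_all
  | insert c s hc ih =>
    by_cases e : aeval T (∏ c ∈ s, (X - C c)) w = 0
    · obtain ⟨d, hd, k⟩ := ih e
      exact ⟨d, Finset.mem_insert_of_mem hd, k⟩
    · refine ⟨c, Finset.mem_insert_self _ _, _, e, ?_⟩
      rw [Finset.prod_insert hc, map_mul, Module.End.mul_apply] at h
      simpa [sub_eq_zero] using h

theorem exists_eigen_hom {P : Type*} [Group P] [Finite P] {α : MulAut P} (hK : Fld p q ζ)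
    (h : Schmidt.MinAct p q α) : ∃ ζ' : K, IsPrimitiveRoot ζ' q ∧
      ∃ π : Additive P →+ K, π ≠ 0 ∧ ∀ x, π (.ofMul (α x)) = ζ' * π (.ofMul x) := by
  classical
  let T : Module.End K (Additive P →+ K) :=
    { toFun := fun f => f.comp (MonoidHom.toAdditive α.toMonoidHom)
      map_add' := fun _ _ => rfl
      map_smul' := fun _ _ => rfl }
  have hT : ∀ (n : ℕ) f x, (T ^ n) f (.ofMul x) = f (.ofMul ((α ^ n) x)) := fun n => by
    induction n with
    | zero => simp
    | succ n ih => intro f x; rw [pow_succ, Module.End.mul_apply, ih, pow_succ']; rfl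
  obtain ⟨μ, hμ⟩ : ∃ μ, T μ - μ ≠ 0 := by
    by_contra! e
    refine h.ne_one (mulAut_eq_one_of_stabilizes (N := frattini P) (h.isPGroup.to_subgroup _)
      h.coprime (fun x => mem_frattini_iff.mpr fun M hM => ?_) fun x hx => h.fix_frattini hx)
    have := coatom_normal h.isPGroup hM
    let e1 : P ⧸ M ≃* Multiplicative (ZMod p) :=
      mulEquivOfPrimeCardEq (p := p) (coatom_index h.isPGroup hM) (by simp)
    have k := DFunLike.congr_fun (sub_eq_zero.mp (e ((algebraMap (ZMod p) K).toAddMonoidHom.comp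
      (MonoidHom.toAdditiveLeft (e1.toMonoidHom.comp (QuotientGroup.mk' M)))))) (.ofMul x)
    exact QuotientGroup.eq.mp (e1.injective (Multiplicative.toAdd.injective
      ((algebraMap (ZMod p) K).injective k))).symm
  have h1 : (1 : K) ∈ nthRootsFinset q 1 := one_mem_nthRootsFinset hK.prime.pos
  obtain ⟨c, hc, v, hv, e⟩ := exists_eigen T ((nthRootsFinset q 1).erase 1) hμ (by
    have k : T μ - μ = aeval T (X - C (1 : K)) μ := by simp
    rw [k, ← Module.End.mul_apply, ← map_mul, Finset.prod_erase_mul _ _ h1,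
      ← X_pow_sub_one_eq_prod hK.prime.pos hK.prim]
    ext x
    simp [hT, h.pow])
  obtain ⟨c1, c2⟩ := Finset.mem_erase.mp hc
  rw [mem_nthRootsFinset hK.prime.pos] at c2
  have := Fact.mk hK.prime
  exact ⟨c, by rw [← orderOf_eq_prime c2 c1]; exact IsPrimitiveRoot.orderOf c, v, hv,
    fun x => DFunLike.congr_fun e (.ofMul x)⟩

/-- minimal non-`p`-nilpotent -/
def MinNN (p : ℕ) (G : Type*) [Group G] : Prop :=
  ¬ HasNormalPComplement p G ∧ ∀ L : Subgroup G, L ≠ ⊤ → HasNormalPComplement p L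

theorem exists_sch [Finite G] (hK : Fld p q ζ) (hG : MinNN p G) {t r : ℕ}
    (hc : Nat.card G = p ^ t * q ^ r) : ∃ (P : Subgroup G) (g : G) (π : G → K),
      Sch p q r ζ P g π ∧ ⁅P, zpowers g⁆ = P ∧ P ⊔ zpowers g = ⊤ := by
  classical
  obtain ⟨Q, hQn, hQ, q', hq', hqp, g, ⟨k, hk⟩, hg, htop⟩ :=
    Transfer.exists_of_minimal_not_hasNormalPComplement hG.1 hG.2
  obtain ⟨j, -, hj⟩ := (Nat.dvd_prime_pow hq').mp (orderOf_dvd_of_pow_eq_one hk)
  have hj0 : j ≠ 0 := by
    rintro rfl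
    rw [pow_zero, orderOf_eq_one_iff] at hj
    exact hg (hj ▸ one_mem _)
  obtain rfl : q' = q := by
    have := (dvd_pow_self q' hj0).trans (hj ▸ orderOf_dvd_natCard g)
    rw [hc] at this
    exact (Nat.prime_dvd_prime_iff_eq hq' hK.prime).mp (hq'.dvd_of_dvd_pow
      (((Nat.coprime_primes hq' hp.out).mpr hqp).pow_right t |>.dvd_of_dvd_mul_left this))
  have cp : ∀ m n : ℕ, (p ^ m).Coprime (q' ^ n) := fun m n =>
    Nat.coprime_pow_primes m n hp.out hq' hK.ne
  have cs : ∀ D : Subgroup G, D ≤ Q → ∀ y : G, y ∈ normalizer (D : Set G) → orderOf y ∣ q' ^ j →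
      Nat.card (D ⊔ zpowers y : Subgroup G) = Nat.card D * orderOf y := fun D hD y hy ho => by
    have := Core.card_sup_mul_card_inf (zpowers_le.mpr hy)
    obtain ⟨n, hn⟩ := IsPGroup.iff_card.mp (hQ.to_le hD)
    rw [disjoint_iff.mp (disjoint_of_coprime_natCard (by
      rw [Nat.card_zpowers, hn]; exact (cp n j).symm.coprime_dvd_left ho)), card_bot, mul_one,
      Nat.card_zpowers] at this
    rw [sup_comm, this, mul_comm]
  have c1 := cs Q le_rfl g (le_normalizer_of_normal (mem_top g)) hj.dvd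
  rw [htop, card_top, hj] at c1
  obtain rfl : j = r := by
    obtain ⟨n, hn⟩ := IsPGroup.iff_card.mp hQ
    rw [hn, hc] at c1
    exact le_antisymm
      ((Nat.pow_dvd_pow_iff_le_right hq'.one_lt).mp ((cp t j).symm.dvd_of_dvd_mul_left
        (c1 ▸ dvd_mul_left _ _)))
      ((Nat.pow_dvd_pow_iff_le_right hq'.one_lt).mp ((cp n r).symm.dvd_of_dvd_mul_left
        (c1 ▸ dvd_mul_left _ _)))
  have key : ∀ D : Subgroup G, D ≤ Q → ∀ y : G, y ∈ normalizer (D : Set G) → orderOf y ∣ q' ^ j →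
      (D ≠ Q ∨ orderOf y ≠ q' ^ j) → y ∈ centralizer (D : Set G) := fun D hD y hy ho hne => by
    refine Transfer.mem_centralizer_of_hasNormalPComplement_of_le (hG.2 (D ⊔ zpowers y) fun e => ?_)
      (hQ.to_le hD) le_sup_left (mem_sup_right (mem_zpowers y)) hy
      (by simpa using (cp 1 j).symm.coprime_dvd_left ho)
    have k := cs D hD y hy ho
    rw [e, card_top, c1] at k
    have k1 := card_le_of_le hD
    have k2 := Nat.le_of_dvd (pow_pos hq'.pos j) ho
    rcases hne with hne | hne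
    · have := lt_of_le_of_ne k1 fun e => hne (eq_of_le_of_card_ge hD e.ge)
      have := Nat.mul_lt_mul_of_lt_of_le this k2 (pow_pos hq'.pos j)
      omega
    · have := Nat.mul_lt_mul_of_le_of_lt k1 (lt_of_le_of_ne k2 hne) Nat.card_pos
      omega
  have hm : Schmidt.MinAct p q' (MulAut.conjNormal (H := Q) g) := by
    refine ⟨hQ, hq', hqp, fun e => hg fun y hy => ?_, ?_, fun D hD hinv x hx => Subtype.ext ?_⟩
    · have := congrArg (fun f : MulAut Q => ((f ⟨y, hy⟩ : Q) : G)) e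
      simp only [MulAut.conjNormal_apply, MulAut.one_apply] at this
      rw [mul_inv_eq_iff_eq_mul] at this; exact this.symm
    · rw [← map_pow]
      ext x
      have := key Q le_rfl (g ^ q') (le_normalizer_of_normal (mem_top _))
        (hj ▸ orderOf_pow_dvd _) (Or.inr fun e => ?_) x x.2
      · rw [MulAut.conjNormal_apply, ← this]; simp
      · have k := (orderOf_pow' g hq'.ne_zero).symm.trans e
        rw [hj, Nat.gcd_eq_right (dvd_pow_self q' hj0)] at k
        exact (Nat.div_lt_self (pow_pos hq'.pos j) hq'.one_lt).ne k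
    · have := key (D.map Q.subtype) (map_subtype_le _) g (mem_normalizer_of_conj_mem (by
        rintro _ ⟨d, hd, rfl⟩; exact mem_map_of_mem _ (hinv d hd))) hj.dvd
        (Or.inl fun e => hD (map_injective Q.subtype_injective (by
          rw [e, ← MonoidHom.range_eq_map, range_subtype]))) x (mem_map_of_mem _ hx)
      rw [MulAut.conjNormal_apply, mul_inv_eq_iff_eq_mul]
      exact this.symm
  obtain ⟨ζ', hζ, f, hf, hfα⟩ := exists_eigen_hom hK hm
  have hK' := hK.of_prim hζ
  have hker : ∀ x : Q, f (.ofMul x) = 0 → MulAut.conjNormal g x = x :=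
    hm.min (AddMonoidHom.toMultiplicativeRight f).ker (fun e => hf (by
      ext x
      exact (e.ge (mem_top x) :))) fun x hx => by
        change f _ = 0 at hx ⊢
        rw [hfα, hx, mul_zero]
  let π : G → K := fun x => if hx : x ∈ Q then f (.ofMul ⟨x, hx⟩) else 0
  have hπ : ∀ x (hx : x ∈ Q), π x = f (.ofMul ⟨x, hx⟩) := fun x hx => dif_pos hx
  have h : Sch p q' j ζ' Q g π := by
    refine ⟨hQ, hj, le_normalizer_of_normal (mem_top g), fun x hx y hy => ?_, fun c => ?_,
      fun x hx => ?_, fun x hx e y hy => ?_, fun x hx e => ?_⟩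
    · rw [hπ _ hx, hπ _ hy, hπ _ (mul_mem hx hy), ← map_add]; rfl
    · obtain ⟨x, hx⟩ := DFunLike.ne_iff.mp hf
      obtain ⟨y, hy⟩ := hK'.irr (S := f.range) (by
        rintro _ ⟨x, rfl⟩; exact ⟨_, hfα x.toMul⟩) ⟨x, rfl⟩ hx c
      exact ⟨y.toMul, y.toMul.2, (hπ _ y.toMul.2).trans hy⟩
    · rw [hπ _ hx, hπ _ (hQn.conj_mem x hx g), ← hfα]; rfl
    · exact congrArg Subtype.val
        (mem_center_iff.mp (hm.mem_center (hker ⟨x, hx⟩ (hπ x hx ▸ e))) ⟨y, hy⟩)
    · exact mul_inv_eq_iff_eq_mul.mp (congrArg Subtype.val (hker ⟨x, hx⟩ (hπ x hx ▸ e)))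
  have : NeZero q' := ⟨hq'.ne_zero⟩
  obtain ⟨i, -, hi⟩ := hζ.eq_pow_of_pow_eq_one hK.prim.pow_eq_one
  have h' := h.pow (j := i) (hq'.coprime_iff_not_dvd.mpr fun e =>
    hK.ne_one (hi.symm.trans ((hζ.pow_eq_one_iff_dvd i).mpr e))).symm
  rw [hi] at h'
  have hcc := (h'.coprimeAct hK).commutator_commutator
  refine ⟨_, _, π, h'.restrict hK, hcc, ?_⟩
  by_contra e
  exact ((h'.restrict hK).minimal hK (Nat.one_le_iff_ne_zero.mpr hj0) hcc).1 (hG.2 _ e)

end Cfsg.Agent.Lib.Two
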