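import Cfsg.Agent.Lib.Two.Cover2

/-!
Minimal non-`p`-nilpotent groups: the universal one.
-/

set_option autoImplicit false

namespace Cfsg.Agent.Lib.Two

open Subgroup Cfsg.Agent.Lib.Core Cfsg.Agent.Lib.PGroup Polynomial
open scoped Pointwise commutatorElement IsMulCommutative

universe u

variable {p q : ℕ} [hp : Fact p.Prime] {K : Type} [Field K] [Algebra (ZMod p) K] {ζ : K}

theorem exists_cover {G₁ G₂ : Type*} [Group G₁] [Group G₂] [Finite G₁] [Finite G₂]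
    (hq : q.Prime) (hpq : p ≠ q) (h1 : MinNN p G₁) (h2 : MinNN p G₂) {a t r : ℕ}
    (ha : a = orderOf (p : ZMod q))
    (c1 : Nat.card G₁ = p ^ (if a % 2 = 1 then a else 3 * a / 2) * q ^ r)
    (c2 : Nat.card G₂ = p ^ t * q ^ r) :
    ∃ φ : G₁ →* G₂, Function.Surjective φ ∧ φ.ker ≤ center G₁ := by
  obtain ⟨K, _, _, ζ, hK⟩ := exists_fld p q hq hpq
  obtain ⟨P₁, g₁, π₁, s₁, d₁, t₁⟩ := exists_sch hK h1 c1
  obtain ⟨P₂, g₂, π₂, s₂, d₂, t₂⟩ := exists_sch hK h2 c2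
  let P : Subgroup (G₁ × G₂) :=
    { carrier := {x | x.1 ∈ P₁ ∧ x.2 ∈ P₂ ∧ π₁ x.1 = π₂ x.2}
      one_mem' := ⟨one_mem _, one_mem _, s₁.one.trans s₂.one.symm⟩
      mul_mem' := fun {x y} hx hy => ⟨mul_mem hx.1 hy.1, mul_mem hx.2.1 hy.2.1, by
        rw [Prod.fst_mul, Prod.snd_mul, s₁.add _ hx.1 _ hy.1, s₂.add _ hx.2.1 _ hy.2.1, hx.2.2,
          hy.2.2]⟩
      inv_mem' := fun {x} hx => ⟨inv_mem hx.1, inv_mem hx.2.1, by
        rw [Prod.fst_inv, Prod.snd_inv, s₁.inv hx.1, s₂.inv hx.2.1, hx.2.2]⟩ }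
  have m1 : P.map (MonoidHom.fst G₁ G₂) = P₁ := le_antisymm (by rintro _ ⟨x, hx, rfl⟩; exact hx.1)
    fun x hx => let ⟨y, hy, e⟩ := s₂.surj (π₁ x); ⟨(x, y), ⟨hx, hy, e.symm⟩, rfl⟩
  have m2 : P.map (MonoidHom.snd G₁ G₂) = P₂ := le_antisymm (by rintro _ ⟨x, hx, rfl⟩; exact hx.2.1)
    fun x hx => let ⟨y, hy, e⟩ := s₁.surj (π₂ x); ⟨(y, x), ⟨hy, hx, e⟩, rfl⟩
  have s : Sch p q r ζ P (g₁, g₂) fun x => π₁ x.1 := by
    refine ⟨fun x => ?_, by rw [Prod.orderOf_mk, s₁.ord, s₂.ord, Nat.lcm_self],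
      mem_normalizer_of_conj_mem fun x hx => ⟨conj_mem_of_mem_normalizer s₁.norm hx.1,
        conj_mem_of_mem_normalizer s₂.norm hx.2.1,
        (s₁.conj _ hx.1).trans (((s₂.conj _ hx.2.1).trans (by rw [hx.2.2])).symm)⟩,
      fun x hx y hy => s₁.add _ hx.1 _ hy.1, fun c => ?_, fun x hx => s₁.conj _ hx.1,
      fun x hx e y hy => Prod.ext (s₁.cen _ hx.1 e _ hy.1) (s₂.cen _ hx.2.1 (hx.2.2 ▸ e) _ hy.2.1),
      fun x hx e => Prod.ext (s₁.fix _ hx.1 e) (s₂.fix _ hx.2.1 (hx.2.2 ▸ e))⟩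
    · obtain ⟨m, hm⟩ := Transfer.pow_eq_one_of_mem_isPGroup s₁.pg x.2.1
      obtain ⟨n, hn⟩ := Transfer.pow_eq_one_of_mem_isPGroup s₂.pg x.2.2.1
      refine ⟨m + n, Subtype.ext (Prod.ext ?_ ?_)⟩
      · simp [pow_add, pow_mul, hm]
      · simp [pow_add, pow_mul', hn]
    · obtain ⟨x, hx, rfl⟩ := s₁.surj c
      obtain ⟨y, hy, rfl⟩ := m1.ge hx
      exact ⟨y, hy, rfl⟩
  have s' := s.restrict hK
  have b1 := s'.card_le hK (s.coprimeAct hK).commutator_commutator ha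
  have b2 := s'.card_sup hK
  set Y := ⁅P, zpowers (g₁, g₂)⁆ ⊔ zpowers (g₁, g₂) with hY
  have f1 : Function.Surjective ((MonoidHom.fst G₁ G₂).comp Y.subtype) := by
    rw [← MonoidHom.range_eq_top, MonoidHom.range_comp, range_subtype, hY, Subgroup.map_sup,
      map_commutator, MonoidHom.map_zpowers, m1, MonoidHom.coe_fst, d₁, t₁]
  have f2 : Function.Surjective ((MonoidHom.snd G₁ G₂).comp Y.subtype) := by
    rw [← MonoidHom.range_eq_top, MonoidHom.range_comp, range_subtype, hY, Subgroup.map_sup,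
      map_commutator, MonoidHom.map_zpowers, m2, MonoidHom.coe_snd, d₂, t₂]
  let e := MulEquiv.ofBijective _ (f1.bijective_of_nat_card_le (by
    rw [b2, c1]; exact Nat.mul_le_mul_right _ b1))
  refine ⟨((MonoidHom.snd G₁ G₂).comp Y.subtype).comp e.symm.toMonoidHom,
    f2.comp e.symm.surjective, fun x hx => ?_⟩
  obtain ⟨⟨y, hy⟩, rfl⟩ := e.surjective x
  replace hx : y.2 = 1 := by simpa using hx
  change y.1 ∈ center G₁
  obtain ⟨u, hu, w, hw, rfl⟩ := (mem_sup_of_le_normalizer_left s'.zpowers_le_norm).mp hy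
  obtain ⟨i, rfl⟩ := mem_powers_iff_mem_zpowers.mpr hw
  replace hu : u ∈ P := commutator_le_of_le_normalizer_left s.zpowers_le_norm hu
  replace hx : u.2 * g₂ ^ i = 1 := hx
  have k1 : g₂ ^ i = 1 := mem_bot.mp ((s₂.coprimeAct hK).inf_eq_bot.le
    ⟨pow_mem (mem_zpowers _) _, eq_inv_of_mul_eq_one_right hx ▸ P₂.inv_mem hu.2.1⟩)
  rw [k1, mul_one] at hx
  have k2 : g₁ ^ i = 1 := by
    rwa [← orderOf_dvd_iff_pow_eq_one, s₁.ord, ← s₂.ord, orderOf_dvd_iff_pow_eq_one]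
  change u.1 * g₁ ^ i ∈ center G₁
  rw [k2, mul_one, ← centralizer_univ, ← coe_top, ← t₁]
  exact s₁.ker_le_cen ⟨hu.1, by rw [hu.2.2, hx, s₂.one]⟩

/-- the central extension of `K` by `K` with cocycle `c` -/
@[ext] structure Hs (c : K →+ K →+ K) where
  x : K
  u : K

namespace Hs

variable {c : K →+ K →+ K}

instance : Mul (Hs c) := ⟨fun a b => ⟨a.x + b.x, a.u + b.u + c a.x b.x⟩⟩
instance : One (Hs c) := ⟨⟨0, 0⟩⟩
instance : Inv (Hs c) := ⟨fun a => ⟨-a.x, -a.u + c a.x a.x⟩⟩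

@[simp] theorem mul_x (a b : Hs c) : (a * b).x = a.x + b.x := rfl
@[simp] theorem mul_u (a b : Hs c) : (a * b).u = a.u + b.u + c a.x b.x := rfl
@[simp] theorem one_x : (1 : Hs c).x = 0 := rfl
@[simp] theorem one_u : (1 : Hs c).u = 0 := rfl
@[simp] theorem inv_x (a : Hs c) : a⁻¹.x = -a.x := rfl
@[simp] theorem inv_u (a : Hs c) : a⁻¹.u = -a.u + c a.x a.x := rfl

instance : Group (Hs c) := Group.ofLeftAxioms
  (fun a b d => by ext <;> simp <;> ring) (fun a => by ext <;> simp) fun a => by ext <;> simp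

/-- the underlying pairs -/
def equiv : Hs c ≃ K × K := ⟨fun a => (a.x, a.u), fun a => ⟨a.1, a.2⟩, fun _ => rfl, fun _ => rfl⟩

/-- scaling -/
def scale (h0 : ζ ≠ 0) (h : ∀ x y, c (ζ * x) (ζ * y) = c x y) : MulAut (Hs c) where
  toFun a := ⟨ζ * a.x, a.u⟩
  invFun a := ⟨ζ⁻¹ * a.x, a.u⟩
  left_inv a := by ext <;> simp [h0]
  right_inv a := by ext <;> simp [h0]
  map_mul' a b := by ext <;> simp [h, mul_add]

end Hs

theorem exists_sch_of_cocycle (hK : Fld p q ζ) {r : ℕ} (hr : 1 ≤ r) (c : K →+ K →+ K)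
    (h : ∀ x y, c (ζ * x) (ζ * y) = c x y) :
    ∃ (G : Type u) (_ : Group G) (_ : Finite G) (P : Subgroup G) (g : G) (π : G → K) (j : K → G),
      Sch p q r ζ P g π ∧ Function.Injective j ∧
        ∀ x ∈ P, ∀ y ∈ P, ⁅x, y⁆ = j (c (π x) (π y) - c (π y) (π x)) := by
  have := hK.finite
  have : Finite (Hs c) := Finite.of_equiv _ Hs.equiv.symm
  have : NeZero (q ^ r) := ⟨pow_ne_zero _ hK.prime.ne_zero⟩
  obtain ⟨G, _, _, ι, σ, H⟩ := exists_hol (X := Hs c)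
    (MonoidHom.fst (MulAut (Hs c)) (ULift.{u} (Multiplicative (ZMod (q ^ r)))))
  let α := Hs.scale hK.ne_zero h
  have hα : ∀ (n : ℕ) a, (α ^ n) a = ⟨ζ ^ n * a.x, a.u⟩ := fun n a => by
    induction n with
    | zero => simp
    | succ n ih => rw [pow_succ', MulAut.mul_apply, ih, pow_succ', mul_assoc]; rfl
  have hπ : ∀ a, Function.invFun ι (ι a) = a := Function.leftInverse_invFun H.ι_inj
  refine ⟨G, inferInstance, inferInstance, ι.range, σ (α, ⟨.ofAdd 1⟩),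
    fun y => (Function.invFun ι y).x, fun w => ι ⟨0, w⟩, ⟨?_, ?_, H.mem_normalizer_range _, ?_,
      fun c => ⟨ι ⟨c, 0⟩, ⟨_, rfl⟩, by rw [hπ]⟩, ?_, ?_, ?_⟩,
      fun v w e => congrArg Hs.u (H.ι_inj e), ?_⟩
  · refine IsPGroup.of_card (n := 2 * orderOf (p : ZMod q)) ?_
    rw [H.card_range_ι, Nat.card_congr Hs.equiv, Nat.card_prod, hK.card, two_mul, pow_add]
  · have e : orderOf (⟨.ofAdd 1⟩ : ULift.{u} (Multiplicative (ZMod (q ^ r)))) = q ^ r := by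
      rw [← MulEquiv.ulift.orderOf_eq]
      exact ZMod.addOrderOf_one _
    rw [orderOf_injective σ H.σ_inj, Prod.orderOf_mk, e]
    refine Nat.lcm_eq_right ((orderOf_dvd_of_pow_eq_one ?_).trans (dvd_pow_self q (by omega)))
    ext a <;> simp [hα, hK.prim.pow_eq_one]
  · rintro _ ⟨a, rfl⟩ _ ⟨b, rfl⟩
    rw [← map_mul, hπ, hπ, hπ, Hs.mul_x]
  · rintro _ ⟨a, rfl⟩
    rw [H.conj, hπ, hπ]; rfl
  · rintro _ ⟨a, rfl⟩ e _ ⟨b, rfl⟩
    rw [hπ] at e
    rw [← map_mul, ← map_mul]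
    congr 1
    ext <;> simp [e, add_comm]
  · rintro _ ⟨a, rfl⟩ e
    rw [hπ] at e
    refine H.commute_iff.mpr ?_
    ext
    · change ζ * a.x = a.x
      rw [e, mul_zero]
    · rfl
  · rintro _ ⟨a, rfl⟩ _ ⟨b, rfl⟩
    simp only [hπ, ← map_commutatorElement]
    congr 1
    ext <;> simp [commutatorElement_def]
    ring

theorem exists_max (hq : q.Prime) (hpq : p ≠ q) {r : ℕ} (hr : 1 ≤ r) {a : ℕ}
    (ha : a = orderOf (p : ZMod q)) : ∃ (G : Type u) (_ : Group G) (_ : Finite G), MinNN p G ∧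
      Nat.card G = p ^ (if a % 2 = 1 then a else 3 * a / 2) * q ^ r := by
  obtain ⟨K, _, _, ζ, hK⟩ := exists_fld p q hq hpq
  have := hK.charP
  have key : ∀ c : K →+ K →+ K, (∀ x y, c (ζ * x) (ζ * y) = c x y) → ∀ n,
      n ≤ Nat.card (c.flip 1 - c 1).range → ∃ (G : Type u) (_ : Group G) (_ : Finite G),
      MinNN p G ∧ ∃ m, p ^ a * n ≤ m ∧ m ≤ p ^ (if a % 2 = 1 then a else 3 * a / 2) ∧
        Nat.card G = m * q ^ r := fun c h n hn => by
    obtain ⟨G, _, _, P, g, π, j, s, hj, hc⟩ := exists_sch_of_cocycle hK hr c h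
    have s' := s.restrict hK
    have hcc := (s.coprimeAct hK).commutator_commutator
    have hle : ⁅P, zpowers g⁆ ≤ P := commutator_le_of_le_normalizer_left s.zpowers_le_norm
    refine ⟨_, inferInstance, inferInstance, s'.minimal hK hr hcc, _, ?_, s'.card_le hK hcc ha,
      s'.card_sup hK⟩
    rw [s'.card_eq, hK.card, ← ha]
    refine Nat.mul_le_mul_left _ (hn.trans (Nat.card_le_card_of_injective
      (fun w => ⟨j w.1, ?_⟩) fun v w e => Subtype.ext (hj (congrArg Subtype.val e))))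
    obtain ⟨_, w, rfl⟩ := w
    obtain ⟨x, hx, e1⟩ := s'.surj 1
    obtain ⟨y, hy, rfl⟩ := s'.surj w
    have := hc y (hle hy) x (hle hx)
    rw [e1] at this
    exact this ▸ s'.comm_mem hy hx
  have := hK.finite
  by_cases e : a % 2 = 1
  · obtain ⟨G, _, _, h1, m, h2, h3, h4⟩ := key 0 (fun _ _ => rfl) 1 Nat.card_pos
    rw [if_pos e] at h3 ⊢
    exact ⟨G, _, ‹_›, h1, by rw [h4, h3.antisymm (by simpa using h2)]⟩
  · have h : orderOf (p : ZMod q) = 2 * (a / 2) := by omega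
    obtain ⟨G, _, _, h1, m, h2, h3, h4⟩ := key
      (AddMonoidHom.mul.comp (iterateFrobenius K p (a / 2)).toAddMonoidHom) (fun x y => by
        simp only [RingHom.toAddMonoidHom_eq_coe, AddMonoidHom.coe_comp, AddMonoidHom.coe_coe,
          Function.comp_apply, iterateFrobenius_def, AddMonoidHom.mul_apply, mul_pow, hK.pow_half h]
        have := hK.ne_zero
        field_simp) (p ^ (a / 2)) (hK.card_range_ge h (c := -1) fun x => by
          simp [iterateFrobenius_def, sub_eq_add_neg])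
    rw [if_neg e] at h3 ⊢
    rw [← pow_add, show a + a / 2 = 3 * a / 2 by omega] at h2
    exact ⟨G, _, ‹_›, h1, by rw [h4, h3.antisymm h2]⟩

end Cfsg.Agent.Lib.Two
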