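import Cfsg.Agent.Lib.PGroup.PHom
import Cfsg.Agent.Lib.PGroup.SecRank
import Cfsg.Agent.Lib.Core.PSolv
import Cfsg.Agent.Lib.Invol.NormalFour

/-!
2-groups without a non-cyclic abelian subgroup of order 8, and Hall `p'`-subgroups of solvable
groups.
-/

set_option autoImplicit false

namespace Cfsg.Agent.Lib.Two

open Subgroup Cfsg.Agent.Lib.Core Cfsg.Agent.Lib.PGroup
open scoped Pointwise commutatorElement IsMulCommutative

universe u

theorem exists_hall_compl (p : ℕ) [hp : Fact p.Prime] (G : Type u) [Group G] [Finite G] :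
    Group.IsSolvable G → ∃ K : Subgroup G, ¬ p ∣ Nat.card K ∧ ∃ k, K.index = p ^ k := by
  refine card_induction (P := fun G _ _ => Group.IsSolvable G →
    ∃ K : Subgroup G, ¬ p ∣ Nat.card K ∧ ∃ k, K.index = p ^ k) (fun G _ _ ih hs => ?_) G
  by_cases h : (⊤ : Subgroup G) = ⊥
  · exact ⟨⊤, by rw [h, card_bot]; exact hp.out.not_dvd_one, 0, by simp⟩
  obtain ⟨r, hr, hN⟩ := exists_OpOf_ne_bot_of_isSolvable (H := ⊤) inferInstance h
  rw [OpOf_top] at hN
  have := Fact.mk hr
  set N := pCore r G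
  obtain ⟨j, hj⟩ := IsPGroup.iff_card.mp (pCore_isPGroup (p := r) (G := G))
  obtain ⟨K, h1, k, h2⟩ := ih (G ⧸ N) (card_quotient_lt hN) inferInstance
  have h3 : (K.comap (QuotientGroup.mk' N)).index = p ^ k := by
    rw [index_comap_of_surjective _ (QuotientGroup.mk'_surjective N), h2]
  have hle : N ≤ K.comap (QuotientGroup.mk' N) := QuotientGroup.le_comap_mk' N K
  have h4 : N.relIndex (K.comap (QuotientGroup.mk' N)) = Nat.card K := by
    have := relIndex_ker (K.comap (QuotientGroup.mk' N)) (QuotientGroup.mk' N)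
    rwa [QuotientGroup.ker_mk', map_comap_eq_self_of_surjective
      (QuotientGroup.mk'_surjective N)] at this
  rcases eq_or_ne r p with rfl | hrp
  · obtain ⟨L, l1, l2, l3, l4⟩ := exists_complement hle (le_normalizer_of_normal) (by
      rw [h4, hj]
      exact ((Nat.Prime.coprime_iff_not_dvd hr).mpr h1).pow_left j)
    refine ⟨L, by rwa [l4, h4], j + k, ?_⟩
    rw [← relIndex_mul_index l1, h3, pow_add, ← hj]
    congr 1
    have a := card_mul_relIndex l1
    have b := card_mul_relIndex hle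
    rw [l4, ← b, mul_comm] at a
    exact Nat.eq_of_mul_eq_mul_right (l4 ▸ Nat.card_pos) a
  · refine ⟨_, fun e => ?_, k, h3⟩
    rw [← card_mul_relIndex hle, h4, hj] at e
    rcases (Nat.Prime.dvd_mul hp.out).mp e with e | e
    · exact hrp ((Nat.prime_dvd_prime_iff_eq hp.out hr).mp (hp.out.dvd_of_dvd_pow e)).symm
    · exact h1 e

variable {G : Type*} [Group G]

/-- contains a non-cyclic abelian subgroup of order 8 -/
def NC8 (Y : Subgroup G) : Prop :=
  ∃ A : Subgroup G, A ≤ Y ∧ IsMulCommutative A ∧ ¬ IsCyclic A ∧ Nat.card A = 8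

/-- a four-group -/
structure Four (V : Subgroup G) : Prop where
  comm : IsMulCommutative V
  nc : ¬ IsCyclic V
  card : Nat.card V = 4

theorem NC8.mono {Y Z : Subgroup G} (h : NC8 Y) (hYZ : Y ≤ Z) : NC8 Z :=
  let ⟨A, h1, h2⟩ := h; ⟨A, h1.trans hYZ, h2⟩

theorem not_isCyclic_of_le {V Y : Subgroup G} (h : ¬ IsCyclic V) (hVY : V ≤ Y) : ¬ IsCyclic Y :=
  fun _ => h (isCyclic_of_injective (inclusion hVY) (inclusion_injective hVY))

theorem commutator_le_of_relIndex_two {H Y Z : Subgroup G} (h : Z.relIndex Y = 2)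
    (hY : H ≤ normalizer (Y : Set G)) (hZ : H ≤ normalizer (Z : Set G)) : ⁅Y, H⁆ ≤ Z := by
  refine commutator_le.mpr fun y hy g hg => ?_
  have := (mul_mem_iff_of_index_two (H := Z.subgroupOf Y) h (a := ⟨y, hy⟩)
    (b := ⟨g * y⁻¹ * g⁻¹, conj_mem_of_mem_normalizer (hY hg) (inv_mem hy)⟩)).mpr (by
      simp only [mem_subgroupOf]
      rw [← mem_normalizer_iff.mp (hZ hg), inv_mem_iff])
  simpa [mem_subgroupOf, commutatorElement_def, mul_assoc] using this

variable [Finite G]

theorem Four.nc8 {V Y : Subgroup G} (hV : Four V) (hY : IsPGroup 2 Y) (h : V < Y)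
    (hc : Y ≤ centralizer (V : Set G)) : NC8 Y := by
  have := Fact.mk Nat.prime_two
  have := hV.comm
  obtain ⟨x, hx, hxV⟩ := SetLike.exists_of_lt h
  obtain ⟨k, hk⟩ := pow_eq_one_of_isPGroup hY hx
  obtain ⟨j, h1, h2⟩ : ∃ j, x ^ 2 ^ j ∉ V ∧ (x ^ 2 ^ j) ^ 2 ∈ V := by
    by_contra hcon
    push Not at hcon
    have : ∀ j, x ^ 2 ^ j ∉ V := fun j => by
      induction j with
      | zero => simpa using hxV
      | succ j ih => rw [pow_succ, pow_mul]; exact hcon j ih
    exact this k (hk ▸ one_mem V)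
  have hm := pow_mem hx (2 ^ j)
  refine ⟨V ⊔ zpowers (x ^ 2 ^ j), sup_le h.le (zpowers_le.mpr hm),
    isMulCommutative_sup_zpowers (hc hm), not_isCyclic_of_le hV.nc le_sup_left, ?_⟩
  rw [card_sup_zpowers (centralizer_le_normalizer _ (hc hm)) h1 h2, hV.card]

theorem four_of_comm {B : Subgroup G} (hB : IsPGroup 2 B) (hc : IsMulCommutative B)
    (hn : ¬ IsCyclic B) (h8 : ¬ NC8 B) : Four B := by
  have := Fact.mk Nat.prime_two
  obtain ⟨u, v, hu, hv, huv⟩ : ∃ u v : B, orderOf u = 2 ∧ orderOf v = 2 ∧ u ≠ v := by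
    by_contra h
    push Not at h
    exact hn (Invol.isCyclic_of_comm_of_unique_involution hB mul_comm h)
  rw [← orderOf_coe] at hu hv
  have h1 : (v : G) ∉ zpowers (u : G) := fun h => by
    rcases (mem_zpowers_iff_of_orderOf_two hu).mp h with h | h
    · rw [h, orderOf_one] at hv; omega
    · exact huv (Subtype.ext h.symm)
  have hle : zpowers (u : G) ⊔ zpowers (v : G) ≤ B :=
    sup_le (zpowers_le.mpr u.2) (zpowers_le.mpr v.2)
  have hcB : B ≤ centralizer (B : Set G) := le_centralizer B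
  have h4 : Nat.card (zpowers (u : G) ⊔ zpowers (v : G) : Subgroup G) = 4 := by
    rw [card_sup_zpowers (p := 2) (centralizer_le_normalizer _ (centralizer_le_centralizer
      (zpowers_le.mpr u.2) (hcB v.2))) h1 (by rw [← hv, pow_orderOf_eq_one]; exact one_mem _),
      Nat.card_zpowers, hu]
  have hV : Four (zpowers (u : G) ⊔ zpowers (v : G)) := by
    refine ⟨isMulCommutative_of_le hle, fun h => ?_, h4⟩
    have hd := card_dvd_of_le_isCyclic (C := zpowers (u : G) ⊔ zpowers (v : G)) le_rfl (n := 2)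
      fun x hx => by
        obtain ⟨a, ha, b, hb, rfl⟩ := (mem_sup_of_le_normalizer_left (le_normalizer_of_le_centralizer
          ((zpowers_le.mpr v.2).trans (hcB.trans (centralizer_le_centralizer
            (zpowers_le.mpr u.2)))))).mp hx
        have a1 := orderOf_dvd_of_mem_zpowers ha
        have a2 := orderOf_dvd_of_mem_zpowers hb
        rw [hu, orderOf_dvd_iff_pow_eq_one] at a1
        rw [hv, orderOf_dvd_iff_pow_eq_one] at a2
        rw [Commute.mul_pow (setLike_mul_comm (zpowers_le.mpr u.2 ha) (zpowers_le.mpr v.2 hb)),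
          a1, a2, one_mul]
    rw [h4] at hd
    omega
  by_contra h
  exact h8 (hV.nc8 hB (lt_of_le_of_ne hle fun e => h (e ▸ hV))
    (hcB.trans (centralizer_le_centralizer hle)))

theorem le_centralizer_of_isCyclic {H Y : Subgroup G} (hY : IsPGroup 2 Y) (hc : IsCyclic Y)
    (hH : ¬ 2 ∣ Nat.card H) (hn : H ≤ normalizer (Y : Set G)) : H ≤ centralizer (Y : Set G) := by
  have := Fact.mk Nat.prime_two
  intro g hg
  obtain ⟨k, hk⟩ := IsPGroup.iff_card.mp hY
  have h1 : orderOf (Y.normalizerMonoidHom ⟨g, hn hg⟩) ∣ Nat.card H :=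
    (orderOf_map_dvd _ _).trans (by rw [← orderOf_coe]; exact H.orderOf_dvd_natCard hg)
  have h2 : orderOf (Y.normalizerMonoidHom ⟨g, hn hg⟩) ∣ 2 ^ k := by
    refine (_root_.orderOf_dvd_natCard _).trans ?_
    rw [IsCyclic.card_mulAut, hk]
    rcases k with _ | k
    · simp
    · rw [Nat.totient_prime_pow_succ Nat.prime_two]; simp [pow_succ]
  have h3 := Nat.eq_one_of_dvd_coprimes (((Nat.Prime.coprime_iff_not_dvd Nat.prime_two).mpr
    hH).symm.pow_right k) h1 h2
  have h4 : (⟨g, hn hg⟩ : normalizer (Y : Set G)) ∈ Y.normalizerMonoidHom.ker :=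
    orderOf_eq_one_iff.mp h3
  rwa [normalizerMonoidHom_ker] at h4

/-- the structure of a 2-group without a non-cyclic abelian subgroup of order 8 -/
theorem cases_of_not_nc8 {Y : Subgroup G} (hY : IsPGroup 2 Y) (h8 : ¬ NC8 Y) :
    IsCyclic Y ∨ Four Y ∨ ∃ a b n, MaxCl a b n Y := by
  have := Fact.mk Nat.prime_two
  have tr : (∃ (a b : Y) (n : ℕ), MaxCl a b n ⊤) → ∃ a b n, MaxCl a b n Y := fun ⟨a, b, n, h⟩ => by
    have := h.map Y.subtype_injective
    rw [← MonoidHom.range_eq_map, range_subtype] at this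
    exact ⟨_, _, _, this⟩
  by_cases h : ∀ A : Subgroup Y, A.Normal → IsMulCommutative A → IsCyclic A
  · exact (isCyclic_or_maxCl_of_normal_abelian_cyclic hY h).imp_right fun h => Or.inr (tr h)
  push Not at h
  obtain ⟨A, h1, h2, h3⟩ := h
  have hA : Four (A.map Y.subtype) := four_of_comm ((hY.to_subgroup A).map _) inferInstance
    (fun e => h3 (isCyclic_of_surjective _ (A.equivMapOfInjective _
      Y.subtype_injective).symm.surjective)) fun e => h8 (e.mono (map_subtype_le A))
  have hc : Nat.card A = 2 ^ 2 := by rw [← card_map_subtype, hA.card]; rfl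
  have h4 := index_centralizer_normal_le hY 2 A hc
  have h5 : (centralizer (A : Set Y)).map Y.subtype = A.map Y.subtype := by
    by_contra e
    refine h8 ((hA.nc8 ((hY.to_subgroup _).map _) (lt_of_le_of_ne (map_mono (le_centralizer A))
      (Ne.symm e)) ?_).mono (map_subtype_le _))
    rw [map_subtype_centralizer]; exact inf_le_right
  rw [map_injective Y.subtype_injective h5] at h4
  by_cases hcm : IsMulCommutative Y
  · exact Or.inr (Or.inl (four_of_comm hY hcm (not_isCyclic_of_le hA.nc (map_subtype_le A)) h8))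
  refine Or.inr (Or.inr (tr (exists_maxCl_of_index_commutator hY ?_ hcm)))
  have h6 := sq_dvd_index_commutator hY (not_isCyclic_of_le hA.nc (map_subtype_le A))
  have h7 := A.card_mul_index
  have h9 := (commutator Y).card_mul_index
  have h10 : Nat.card (commutator Y) ≠ 1 := fun e => hcm (by
    rw [card_eq_one, commutator_eq_bot_iff_center_eq_top, center_eq_top_iff] at e
    exact e)
  have h11 : 0 < Nat.card (commutator Y) := Nat.card_pos
  have h12 : 0 < (commutator Y).index := Nat.pos_of_ne_zero index_ne_zero_of_finite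
  obtain ⟨c, hc'⟩ := h6
  simp only [Nat.choose_self, pow_one] at h4
  rw [hc] at h7
  rw [hc'] at h9 h12 ⊢
  have h13 : Nat.card (commutator Y) * c ≤ 2 := by nlinarith
  have : c = 1 := by
    have : 2 ≤ Nat.card (commutator Y) := by omega
    have : 0 < c := by omega
    nlinarith
  rw [this]; rfl

theorem cases_of_not_le_centralizer {H Y : Subgroup G} (hY : IsPGroup 2 Y) (h8 : ¬ NC8 Y)
    (hH : ¬ 2 ∣ Nat.card H) (hn : H ≤ normalizer (Y : Set G))
    (hc : ¬ H ≤ centralizer (Y : Set G)) : Four Y ∨ ∃ a b, QuatForm a b 0 Y := by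
  have := Fact.mk Nat.prime_two
  rcases cases_of_not_nc8 hY h8 with h | h | ⟨a, b, n, h⟩
  · exact absurd (le_centralizer_of_isCyclic hY h hH hn) hc
  · exact Or.inl h
  have hna : ¬ H ≤ normalizer ((zpowers a : Subgroup G) : Set G) := fun e => hc (le_centralizer_iff.mp
    ((coprimeAct_of_isPGroup_right hH hY hn).le_centralizer
      ((commutator_le_of_relIndex_two h.relIndex hn e).trans (le_centralizer_iff.mp
        (le_centralizer_of_isCyclic (hY.to_le (zpowers_le.mpr h.a_mem)) inferInstance hH e)))))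
  obtain ⟨g, hg, hga⟩ : ∃ g ∈ H, g * a * g⁻¹ ∉ zpowers a := by
    by_contra e
    push Not at e
    exact hna fun g hg => mem_normalizer_zpowers (e g hg)
  have ho : orderOf (g * a * g⁻¹) = 2 ^ (n + 2) := by
    rw [← h.ord]; exact (MulAut.conj g).orderOf_eq a
  obtain ⟨c, hc, e⟩ := (h.mem_iff.mp (conj_mem_of_mem_normalizer (hn hg) h.a_mem)).resolve_left hga
  rw [e] at ho
  obtain ⟨k, rfl⟩ := hc
  have hz := half_pow_mul_self h.ord
  have hsq : ∀ w, b * a * b⁻¹ = w → (a ^ k * b) ^ 2 = a ^ k * w ^ k * b ^ 2 := fun w hw => by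
    rw [← hw, conj_zpow]; simp only [pow_two]; group
  have h4 : (a ^ k * b) ^ 2 ^ 2 = 1 → n = 0 := fun e => by
    have := Nat.le_of_dvd (by norm_num) (orderOf_dvd_of_pow_eq_one e)
    rw [ho, Nat.pow_le_pow_iff_right one_lt_two] at this
    omega
  rcases h.cases with ⟨h1, h2⟩ | ⟨h1, h2⟩ | ⟨h0, h1, h2⟩
  · have := hsq _ h1
    rw [h2, inv_zpow, mul_inv_cancel, one_mul] at this
    have := Nat.le_of_dvd (by norm_num) (orderOf_dvd_of_pow_eq_one this)
    rw [ho, pow_add] at this
    have := Nat.one_le_two_pow (n := n)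
    omega
  · have := hsq _ h1
    rw [h2, inv_zpow, mul_inv_cancel, one_mul] at this
    obtain rfl := h4 (by rw [pow_two 2, pow_mul, this, pow_two, hz])
    exact Or.inr ⟨a, b, h.ord, h.not_mem, h.sup, h1, h2⟩
  · have := hsq _ h1
    rw [h2, mul_one, Commute.mul_zpow ((Commute.refl a).inv_left.pow_right _), inv_zpow,
      mul_inv_cancel_left] at this
    have := h4 (by rw [pow_two 2, pow_mul, this, ← zpow_natCast, ← zpow_mul, mul_comm, zpow_mul,
      zpow_natCast, pow_two, hz, one_zpow])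
    omega

end Cfsg.Agent.Lib.Two
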